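import Groth.Prelude.Def_W4c4chowquasisplitPn
import Mathlib.Algebra.CharP.Two
import Mathlib.RingTheory.MvPolynomial.Ideal
import Mathlib.Tactic

/-! Presentation of the fixed subalgebra of a truncated polynomial algebra. -/

set_option autoImplicit false

open MvPolynomial QsChow

namespace TruncPresLib

variable {n : ℕ}

section Indices

/-- The first position. -/
def i0 : Fin (numVars n) := ⟨0, Nat.succ_pos _⟩

/-- The second position. -/
def i1 (hn : 2 ≤ n) : Fin (numVars n) := ⟨1, by unfold numVars; omega⟩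

end Indices

variable (n) in
/-- Lifts of the images of the generators. -/
noncomputable def lift : Option (Fin (numVars n)) → FreeP n
  | none => X i0 ^ (n - 1) * (if h : 2 ≤ n then X (i1 h) else 0)
  | some i =>
    if i.val = 0 then X i0
    else (if h : 2 ≤ n then
      (if i.val = 1 then X (i1 h) ^ 2 + X i0 * X (i1 h)
        else X i + X i0 ^ (2 * (i.val + 1) - 4) * X (i1 h)) else 0)

theorem eps_eq {j : ℕ} (i : Fin (numVars n)) (h : j = i.val + 1) :
    eps n j = Ideal.Quotient.mk (truncIdeal n) (X i) := by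
  subst h
  rw [eps, dif_pos ⟨Nat.succ_pos _, i.isLt⟩]
  rfl

theorem evar_eq {j : ℕ} (i : Fin (numVars n)) (h : j = i.val + 1) : evar n j = X (some i) := by
  subst h
  rw [evar, dif_pos ⟨Nat.succ_pos _, i.isLt⟩]
  rfl

theorem phi_eq (hn : 2 ≤ n) (f : FreeE n) :
    phi n f = Ideal.Quotient.mk (truncIdeal n) (aeval (lift n) f) := by
  have h : phi n = (Ideal.Quotient.mkₐ (ZMod 2) (truncIdeal n)).comp (aeval (lift n)) := by
    refine MvPolynomial.algHom_ext fun o => ?_
    rw [AlgHom.comp_apply, phi, aeval_X, aeval_X, Ideal.Quotient.mkₐ_eq_mk]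
    cases o with
    | none => simp [genImage, lift, dif_pos hn, eps_eq (i0 (n := n)) (j := 1) rfl, eps_eq (i1 hn) (j := 2) rfl]
    | some i =>
      rcases Nat.eq_zero_or_pos i.val with h0 | h0
      · simp [genImage, lift, h0, eps_eq (i0 (n := n)) (j := 1) rfl]
      · by_cases h1 : i.val = 1
        · simp [genImage, lift, h1, dif_pos hn, eps_eq (i0 (n := n)) (j := 1) rfl, eps_eq (i1 hn) (j := 2) rfl]
        · simp [genImage, lift, h1, h0.ne', dif_pos hn, eps_eq (i0 (n := n)) (j := 1) rfl,
            eps_eq (i1 hn) (j := 2) rfl, eps_eq i (j := i.val + 1) rfl]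
  exact DFunLike.congr_fun h f

section Relations

variable (hn : 2 ≤ n)

theorem bound_i0 : bound n i0 = n := if_pos rfl

theorem bound_ne {i : Fin (numVars n)} (h : i.val ≠ 0) : bound n i = 2 ^ klog n (i.val + 1) := if_neg h

theorem le_mul_pow {j : ℕ} (hj : 2 ≤ j) : n ≤ (2 * j - 3) * 2 ^ klog n j := by
  have h := Nat.lt_pow_succ_log_self (b := 2) one_lt_two ((2 * n - 1) / (2 * j - 3))
  rw [Nat.div_lt_iff_lt_mul (by omega), pow_succ] at h
  have : 2 ^ klog n j * 2 * (2 * j - 3) = 2 * ((2 * j - 3) * 2 ^ klog n j) := by ring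
  unfold klog at this ⊢
  omega

include hn in
theorem klog_two_pos : 1 ≤ klog n 2 := by
  refine Nat.log_pos one_lt_two ?_
  norm_num
  omega

theorem mk_X_pow (i : Fin (numVars n)) {m : ℕ} (h : bound n i ≤ m) :
    (Ideal.Quotient.mk (truncIdeal n) (X i) : P n) ^ m = 0 := by
  rw [← map_pow, Ideal.Quotient.eq_zero_iff_mem]
  exact Ideal.pow_mem_of_pow_mem _ (Ideal.subset_span ⟨i, rfl⟩) h

instance : CharP (FreeP n) 2 := inferInstance

theorem telescope {R : Type*} [CommRing R] (h2 : ∀ r : R, r + r = 0) (hc : ∀ (r r' : R) (t : ℕ), (r + r') ^ 2 ^ t = r ^ 2 ^ t + r' ^ 2 ^ t)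
    (a c : R) (K : ℕ) :
    ∑ t ∈ Finset.range K, a ^ (2 ^ K - 2 ^ (t + 1)) * (c ^ 2 + a * c) ^ 2 ^ t = c ^ 2 ^ K + a ^ (2 ^ K - 1) * c := by
  have hterm : ∀ t ∈ Finset.range K, a ^ (2 ^ K - 2 ^ (t + 1)) * (c ^ 2 + a * c) ^ 2 ^ t =
      a ^ (2 ^ K - 2 ^ (t + 1)) * c ^ 2 ^ (t + 1) - a ^ (2 ^ K - 2 ^ t) * c ^ 2 ^ t := fun t ht => by
    have hle : 2 ^ (t + 1) ≤ 2 ^ K := Nat.pow_le_pow_right two_pos (Finset.mem_range.1 ht)
    have he : 2 ^ K - 2 ^ (t + 1) + 2 ^ t = 2 ^ K - 2 ^ t := by rw [pow_succ] at hle ⊢; omega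
    rw [hc, ← pow_mul, ← pow_succ', mul_pow, mul_add, ← mul_assoc, ← pow_add, he, sub_eq_add_neg,
      ← eq_neg_of_add_eq_zero_left (h2 (a ^ (2 ^ K - 2 ^ t) * c ^ 2 ^ t))]
  rw [Finset.sum_congr rfl hterm, Finset.sum_range_sub (fun t => a ^ (2 ^ K - 2 ^ t) * c ^ 2 ^ t), Nat.sub_self,
    pow_zero, one_mul, pow_zero, pow_one, sub_eq_add_neg,
    ← eq_neg_of_add_eq_zero_left (h2 (a ^ (2 ^ K - 1) * c))]

include hn in
theorem presIdeal_le : presIdeal n ≤ RingHom.ker (phi n) := by
  let a : P n := Ideal.Quotient.mk _ (X i0)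
  let c : P n := Ideal.Quotient.mk _ (X (i1 hn))
  have h2 : ∀ r : P n, r + r = 0 := fun r => by
    obtain ⟨r, rfl⟩ := Ideal.Quotient.mk_surjective r
    rw [← map_add, CharTwo.add_self_eq_zero, map_zero]
  have hc : ∀ (r r' : P n) (t : ℕ), (r + r') ^ 2 ^ t = r ^ 2 ^ t + r' ^ 2 ^ t := fun r r' t => by
    obtain ⟨r, rfl⟩ := Ideal.Quotient.mk_surjective r
    obtain ⟨r', rfl⟩ := Ideal.Quotient.mk_surjective r'
    rw [← map_add, ← map_pow, ← map_pow, ← map_pow, ← map_add, add_pow_char_pow]
  have ha : ∀ {m}, n ≤ m → a ^ m = 0 := fun {m} h => mk_X_pow i0 (by rwa [bound_i0])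
  have he1 : phi n (evar n 1) = a := by
    rw [evar_eq (i0 (n := n)) (j := 1) rfl, phi_eq hn, aeval_X]; simp [lift, i0, a]
  have he2 : phi n (evar n 2) = c ^ 2 + a * c := by
    rw [evar_eq (i1 hn) (j := 2) rfl, phi_eq hn, aeval_X]; simp [lift, i1, dif_pos hn, a, c]
  have hx : phi n (xvar n) = a ^ (n - 1) * c := by
    rw [xvar, phi_eq hn, aeval_X]; simp [lift, dif_pos hn, a, c]
  have hS : ∀ j, phi n (sPoly n j) = c ^ 2 ^ klog n j + a ^ (2 ^ klog n j - 1) * c := fun j => by
    rw [sPoly, map_sum]
    simp only [map_mul, map_pow, he1, he2]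
    exact telescope h2 hc a c _
  refine Ideal.span_le.2 ?_
  rintro f ((rfl | rfl | rfl) | ⟨i, rfl⟩) <;> rw [SetLike.mem_coe, RingHom.mem_ker]
  · rw [map_pow, he1, ha le_rfl]
  · rw [map_mul, he1, hx, ← mul_assoc, ← pow_succ', ha (by omega), zero_mul]
  · rw [map_pow, hx, mul_pow, ← pow_mul, ha (by omega), zero_mul]
  · show phi n (hrel n (i.val + 1)) = 0
    unfold hrel
    split_ifs with h2' h3
    · have hb := le_mul_pow (n := n) (j := 2) le_rfl
      have hc0 : c ^ 2 ^ klog n 2 = 0 := mk_X_pow _ (le_of_eq (bound_ne one_ne_zero))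
      rw [map_add, map_mul, map_pow, he1, hx, hS, hc0, zero_add, ← mul_assoc, ← pow_add,
        show 2 ^ klog n 2 - n + (n - 1) = 2 ^ klog n 2 - 1 by omega, h2]
    · have hb := le_mul_pow (n := n) (j := i.val + 1) (by omega)
      have hej : phi n (evar n (i.val + 1)) = Ideal.Quotient.mk _ (X i) + a ^ (2 * (i.val + 1) - 4) * c := by
        rw [evar_eq i rfl, phi_eq hn, aeval_X]
        simp [lift, dif_pos hn, a, c, show i.val ≠ 0 by omega, show i.val ≠ 1 by omega]
      have h1 : 1 ≤ 2 ^ klog n (i.val + 1) := Nat.one_le_two_pow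
      have e1 : (2 * (i.val + 1) - 3) * 2 ^ klog n (i.val + 1) =
          (2 * (i.val + 1) - 4) * 2 ^ klog n (i.val + 1) + 2 ^ klog n (i.val + 1) := by
        rw [show 2 * (i.val + 1) - 3 = (2 * (i.val + 1) - 4) + 1 by omega, add_mul, one_mul]
      rw [map_add, map_add, map_mul, map_mul, map_pow, map_pow, map_pow, hej, he1, hx, hS, hc,
        mk_X_pow i (le_of_eq (bound_ne (by omega))), zero_add, mul_pow, ← pow_mul]
      have ee : (2 * (i.val + 1) - 3) * 2 ^ klog n (i.val + 1) - n + (n - 1) =
          (2 * (i.val + 1) - 4) * 2 ^ klog n (i.val + 1) + (2 ^ klog n (i.val + 1) - 1) := by omega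
      generalize (2 * (i.val + 1) - 4) * 2 ^ klog n (i.val + 1) = p at ee ⊢
      generalize (2 * (i.val + 1) - 3) * 2 ^ klog n (i.val + 1) - n = q at ee ⊢
      rw [← mul_assoc (a ^ q), ← pow_add, ee, pow_add]
      linear_combination h2 (a ^ p * c ^ 2 ^ klog n (i.val + 1)) + h2 (a ^ p * a ^ (2 ^ klog n (i.val + 1) - 1) * c)
    · exact map_zero _

end Relations

section Spanning

variable (hn : 2 ≤ n)

/-- Exponents of reduced monomials. -/
def Red (d : Option (Fin (numVars n)) →₀ ℕ) : Prop :=
  d none ≤ 1 ∧ (d none = 1 → d (some i0) = 0) ∧ d (some i0) < n ∧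
    (∀ i : Fin (numVars n), i.val = 1 → d (some i) < 2 ^ (klog n 2 - 1)) ∧
    ∀ i : Fin (numVars n), 2 ≤ i.val → d (some i) < bound n i

/-- Span of the reduced monomials and the relations. -/
noncomputable def redSpan (n : ℕ) : Submodule (ZMod 2) (FreeE n) :=
  Submodule.span (ZMod 2) ((fun d => monomial d (1 : ZMod 2)) '' {d | Red d}) ⊔ (presIdeal n).restrictScalars (ZMod 2)

theorem mem_redSpan_of_red {d : Option (Fin (numVars n)) →₀ ℕ} (h : Red d) : monomial d (1 : ZMod 2) ∈ redSpan n :=
  Submodule.mem_sup_left (Submodule.subset_span ⟨d, h, rfl⟩)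

theorem mem_redSpan_of_mem {f : FreeE n} (h : f ∈ presIdeal n) : f ∈ redSpan n := Submodule.mem_sup_right h

theorem mul_mem_of {g : FreeE n} (h : ∀ d, Red d → g * monomial d (1 : ZMod 2) ∈ redSpan n) {f : FreeE n}
    (hf : f ∈ redSpan n) : g * f ∈ redSpan n := by
  refine (sup_le ?_ ?_ : redSpan n ≤ (redSpan n).comap (LinearMap.mulLeft (ZMod 2) g)) hf
  · rw [Submodule.span_le]
    rintro _ ⟨d, hd, rfl⟩
    exact h d hd
  · exact fun f hf => mem_redSpan_of_mem (Ideal.mul_mem_left _ _ hf)

/-- The elements preserving `redSpan`. -/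
noncomputable def stab (n : ℕ) : Subalgebra (ZMod 2) (FreeE n) where
  carrier := {g | ∀ f ∈ redSpan n, g * f ∈ redSpan n}
  mul_mem' := fun {a b} ha hb f hf => by rw [mul_assoc]; exact ha _ (hb f hf)
  add_mem' := fun {a b} ha hb f hf => by rw [add_mul]; exact add_mem (ha f hf) (hb f hf)
  algebraMap_mem' := fun r f hf => by rw [← Algebra.smul_def]; exact Submodule.smul_mem _ r hf

theorem X_mul_monomial (o : Option (Fin (numVars n))) (d : Option (Fin (numVars n)) →₀ ℕ) :
    (X o : FreeE n) * monomial d 1 = monomial (Finsupp.single o 1 + d) 1 := by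
  rw [X, monomial_mul, one_mul]

theorem monomial_mem_of_le {o : Option (Fin (numVars n))} {m : ℕ} {d : Option (Fin (numVars n)) →₀ ℕ}
    (h : m ≤ d o) : (monomial d 1 : FreeE n) = X o ^ m * monomial (d - Finsupp.single o m) 1 := by
  rw [X_pow_eq_monomial, monomial_mul, one_mul, add_tsub_cancel_of_le (Finsupp.single_le_iff.2 h)]

theorem hrel_mem (i : Fin (numVars n)) : hrel n (i.val + 1) ∈ presIdeal n :=
  Ideal.subset_span (Or.inr ⟨i, rfl⟩)

include hn in
theorem X_i0_mem : (X (some i0) : FreeE n) ∈ stab n := by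
  refine fun f hf => mul_mem_of (fun d hd => ?_) hf
  have e1 := evar_eq (i0 (n := n)) (j := 1) rfl
  rw [X_mul_monomial]
  obtain ⟨hx, hxa, ha, hc, hb⟩ := hd
  by_cases h : d none = 1
  · refine mem_redSpan_of_mem ?_
    rw [monomial_mem_of_le (o := some i0) (m := 1) (by simp), monomial_mem_of_le (o := none) (m := 1) (by simp [h]),
      pow_one, pow_one, ← mul_assoc]
    exact Ideal.mul_mem_right _ _ (Ideal.subset_span (Or.inl (Or.inr (Or.inl (by rw [e1]; rfl)))))
  · by_cases h' : d (some i0) + 1 = n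
    · refine mem_redSpan_of_mem ?_
      rw [monomial_mem_of_le (o := some i0) (m := n) (by simp; omega)]
      exact Ideal.mul_mem_right _ _ (Ideal.subset_span (Or.inl (Or.inl (by rw [e1]))))
    · refine mem_redSpan_of_red ⟨by simpa using hx, fun e => absurd (by simpa using e) h, by simp; omega, fun i hi => ?_, fun i hi => ?_⟩
      · have : (i0 : Fin (numVars n)) ≠ i := fun e => by simp [← e, i0] at hi
        simpa [this] using hc i hi
      · have : (i0 : Fin (numVars n)) ≠ i := fun e => by simp [← e, i0] at hi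
        simpa [this] using hb i hi

include hn in
theorem X_none_mem : (X none : FreeE n) ∈ stab n := by
  refine fun f hf => mul_mem_of (fun d hd => ?_) hf
  have e1 := evar_eq (i0 (n := n)) (j := 1) rfl
  rw [X_mul_monomial]
  obtain ⟨hx, hxa, ha, hc, hb⟩ := hd
  by_cases h : d none = 1
  · refine mem_redSpan_of_mem ?_
    rw [monomial_mem_of_le (o := none) (m := 2) (by simp [h])]
    exact Ideal.mul_mem_right _ _ (Ideal.subset_span (Or.inl (Or.inr (Or.inr rfl))))
  · by_cases h' : 1 ≤ d (some i0)
    · refine mem_redSpan_of_mem ?_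
      rw [monomial_mem_of_le (o := some i0) (m := 1) (by simp; omega),
        monomial_mem_of_le (o := none) (m := 1) (by simp), pow_one, pow_one, ← mul_assoc]
      exact Ideal.mul_mem_right _ _ (Ideal.subset_span (Or.inl (Or.inr (Or.inl (by rw [e1]; rfl)))))
    · refine mem_redSpan_of_red ⟨by simp; omega, fun _ => by simp; omega, by simp; omega, fun i hi => ?_, fun i hi => ?_⟩
      · simpa using hc i hi
      · simpa using hb i hi

theorem red_update {d : Option (Fin (numVars n)) →₀ ℕ} (hd : Red d) {i : Fin (numVars n)} (hi : i.val ≠ 0) {r : ℕ}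
    (hr : r < if i.val = 1 then 2 ^ (klog n 2 - 1) else bound n i) : Red (d.update (some i) r) := by
  obtain ⟨hx, hxa, ha, hc, hb⟩ := hd
  have h0 : (some i0 : Option (Fin (numVars n))) ≠ some i := fun e => hi (by rw [← Option.some.inj e]; rfl)
  refine ⟨by simpa [Finsupp.update_apply] using hx, by simpa [Finsupp.update_apply, h0] using hxa,
    by simpa [Finsupp.update_apply, h0] using ha, fun j hj => ?_, fun j hj => ?_⟩
  · rcases eq_or_ne j i with rfl | hji
    · simpa [Finsupp.update_apply, hj] using hr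
    · simpa [Finsupp.update_apply, hji] using hc j hj
  · rcases eq_or_ne j i with rfl | hji
    · simpa [Finsupp.update_apply, show j.val ≠ 1 by omega] using hr
    · simpa [Finsupp.update_apply, hji] using hb j hj

include hn in
/-- A variable with a monic relation over the stable elements is stable. -/
theorem X_mem_of_rel {i : Fin (numVars n)} (hi : i.val ≠ 0) {B : ℕ}
    (hB : B = if i.val = 1 then 2 ^ (klog n 2 - 1) else bound n i) {g : FreeE n}
    (hg : ∀ d, Red d → d (some i) = 0 → g * monomial d 1 ∈ redSpan n)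
    (hrel : X (some i) ^ B + g ∈ presIdeal n) : (X (some i) : FreeE n) ∈ stab n := by
  refine fun f hf => mul_mem_of (fun d hd => ?_) hf
  rw [X_mul_monomial]
  by_cases h : d (some i) + 1 < B
  · convert! mem_redSpan_of_red (red_update hd hi (r := d (some i) + 1) (hB ▸ h)) using 3
    ext o
    rcases eq_or_ne o (some i) with rfl | ho <;> simp [Finsupp.update_apply, add_comm, *]
  · have hlt : d (some i) < B := by
      rw [hB]
      split_ifs with h1
      · exact hd.2.2.2.1 i h1
      · exact hd.2.2.2.2 i (by omega)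
    have hd0 := red_update hd hi (r := 0) (hB ▸ by omega)
    have he : (monomial (Finsupp.single (some i) 1 + d) 1 : FreeE n) =
        X (some i) ^ B * monomial (d.update (some i) 0) 1 := by
      rw [X_pow_eq_monomial, monomial_mul, one_mul]
      congr 1
      congr 1
      ext o
      rcases eq_or_ne o (some i) with rfl | ho
      · simp [Finsupp.update_apply]; omega
      · simp [Finsupp.update_apply, ho]
    rw [he, show X (some i) ^ B = (X (some i) ^ B + g) - g by rw [add_sub_cancel_right], sub_mul]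
    exact sub_mem (mem_redSpan_of_mem (Ideal.mul_mem_right _ _ hrel)) (hg _ hd0 (by simp [Finsupp.update_apply]))

include hn in
theorem X_i1_mem : (X (some (i1 hn)) : FreeE n) ∈ stab n := by
  obtain ⟨k, hk⟩ : ∃ k, klog n 2 = k + 1 := ⟨klog n 2 - 1, by have := klog_two_pos hn; omega⟩
  refine X_mem_of_rel hn one_ne_zero (B := 2 ^ k) (g := evar n 1 ^ (2 ^ klog n 2 - n) * xvar n +
    ∑ t ∈ Finset.range k, evar n 1 ^ (2 ^ klog n 2 - 2 ^ (t + 1)) * evar n 2 ^ 2 ^ t)
    (by simp [i1, hk]) (fun d hd hd0 => ?_) ?_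
  · have h1 : evar n 1 ∈ stab n := by rw [evar_eq (i0 (n := n)) (j := 1) rfl]; exact X_i0_mem hn
    rw [add_mul, Finset.sum_mul]
    refine add_mem ?_ (sum_mem fun t ht => ?_)
    · exact mul_mem (pow_mem h1 _) (X_none_mem hn : xvar n ∈ stab n) _ (mem_redSpan_of_red hd)
    · rw [mul_assoc]
      refine pow_mem h1 _ _ ?_
      rw [evar_eq (i1 hn) (j := 2) rfl, X_pow_eq_monomial, monomial_mul, one_mul]
      convert! mem_redSpan_of_red (red_update hd (i := i1 hn) one_ne_zero (r := 2 ^ t) ?_) using 3
      · ext o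
        rcases eq_or_ne o (some (i1 hn)) with rfl | ho <;> simp [Finsupp.update_apply, *]
      · simpa [i1, hk] using Nat.pow_lt_pow_right one_lt_two (Finset.mem_range.1 ht)
  · convert! hrel_mem (i1 hn) using 1
    simp only [hrel, i1, if_pos, sPoly, hk, Finset.sum_range_succ, Nat.sub_self, pow_zero, one_mul,
      evar_eq (i1 hn) (j := 2) rfl]
    ring

include hn in
theorem X_mem (i : Fin (numVars n)) (hi : 2 ≤ i.val) : (X (some i) : FreeE n) ∈ stab n := by
  refine X_mem_of_rel hn (by omega) (B := 2 ^ klog n (i.val + 1))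
    (g := evar n 1 ^ ((2 * (i.val + 1) - 3) * 2 ^ klog n (i.val + 1) - n) * xvar n +
      evar n 1 ^ ((2 * (i.val + 1) - 4) * 2 ^ klog n (i.val + 1)) * sPoly n (i.val + 1))
    (by rw [if_neg (by omega), bound_ne (by omega)]) (fun d hd _ => ?_) ?_
  · have h1 : evar n 1 ∈ stab n := by rw [evar_eq (i0 (n := n)) (j := 1) rfl]; exact X_i0_mem hn
    have h2 : evar n 2 ∈ stab n := by rw [evar_eq (i1 hn) (j := 2) rfl]; exact X_i1_mem hn
    have hS : sPoly n (i.val + 1) ∈ stab n := sum_mem fun t _ => mul_mem (pow_mem h1 _) (pow_mem h2 _)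
    exact add_mem (mul_mem (pow_mem h1 _) (X_none_mem hn : xvar n ∈ stab n)) (mul_mem (pow_mem h1 _) hS) _
      (mem_redSpan_of_red hd)
  · convert! hrel_mem i using 1
    rw [hrel, if_neg (by omega), if_pos ⟨by omega, i.isLt⟩, evar_eq i rfl]
    ring

include hn in
theorem mem_redSpan (f : FreeE n) : f ∈ redSpan n := by
  have htop : stab n = ⊤ := by
    rw [eq_top_iff, ← MvPolynomial.adjoin_range_X, Algebra.adjoin_le_iff]
    rintro _ ⟨o, rfl⟩
    cases o with
    | none => exact X_none_mem hn
    | some i =>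
      rcases Nat.lt_or_ge i.val 2 with h | h
      · rcases Nat.eq_zero_or_pos i.val with h0 | h0
        · rw [show i = i0 from Fin.ext h0]; exact X_i0_mem hn
        · rw [show i = i1 hn from Fin.ext (show i.val = 1 by omega)]; exact X_i1_mem hn
      · exact X_mem hn i h
  have h1 : (1 : FreeE n) ∈ redSpan n :=
    mem_redSpan_of_red (d := (0 : Option (Fin (numVars n)) →₀ ℕ))
      ⟨by simp, fun _ => by simp, by simp; omega, fun i _ => by simp, fun i hi => by
        rw [bound_ne (by omega)]; simp⟩
  simpa using (htop.symm ▸ Algebra.mem_top : f ∈ stab n) 1 h1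

end Spanning

section Triangular

variable (hn : 2 ≤ n)

/-- Weight. -/
def wt (e : Fin (numVars n) →₀ ℕ) : ℕ :=
  ∑ i, (if i.val = 0 then 0 else if i.val = 1 then 1 else 2) * e i

theorem wt_add (e e' : Fin (numVars n) →₀ ℕ) : wt (e + e') = wt e + wt e' := by
  simp [wt, mul_add, Finset.sum_add_distrib]

theorem wt_single (i : Fin (numVars n)) (m : ℕ) :
    wt (Finsupp.single i m) = (if i.val = 0 then 0 else if i.val = 1 then 1 else 2) * m := by
  classical
  rw [wt, Finset.sum_eq_single i] <;> simp +contextual [Finsupp.single_apply, eq_comm]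

/-- `f` has leading exponent `e`. -/
def Lead (f : FreeP n) (e : Fin (numVars n) →₀ ℕ) : Prop :=
  coeff e f = 1 ∧ ∀ e', coeff e' f ≠ 0 → e' = e ∨ wt e' < wt e

theorem lead_monomial (e : Fin (numVars n) →₀ ℕ) : Lead (monomial e 1) e := by
  classical
  refine ⟨by simp, fun e' h => Or.inl ?_⟩
  by_contra hne
  exact h (by rw [coeff_monomial, if_neg (Ne.symm hne)])

theorem lead_mul {f g : FreeP n} {e d : Fin (numVars n) →₀ ℕ} (hf : Lead f e) (hg : Lead g d) :
    Lead (f * g) (e + d) := by
  classical
  constructor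
  · rw [coeff_mul, Finset.sum_eq_single (e, d)]
    · rw [hf.1, hg.1, one_mul]
    · rintro ⟨p, q⟩ hpq hne
      rw [Finset.HasAntidiagonal.mem_antidiagonal] at hpq
      by_contra h
      dsimp only at h hpq
      have hw : wt p + wt q = wt e + wt d := by rw [← wt_add, ← wt_add, hpq]
      rcases hf.2 p (fun e0 => h (by rw [e0, zero_mul])) with rfl | hp
      · exact hne (Prod.ext rfl (add_left_cancel hpq))
      · rcases hg.2 q (fun e0 => h (by rw [e0, mul_zero])) with rfl | hq <;> omega
    · intro h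
      exact (h (Finset.HasAntidiagonal.mem_antidiagonal.2 (rfl : (e, d).1 + (e, d).2 = e + d))).elim
  · intro e' h
    rw [coeff_mul] at h
    obtain ⟨⟨p, q⟩, hpq, hne⟩ := Finset.exists_ne_zero_of_sum_ne_zero h
    rw [Finset.HasAntidiagonal.mem_antidiagonal] at hpq
    dsimp only at hne hpq
    subst hpq
    simp only [wt_add]
    rcases hf.2 p (fun e0 => hne (by rw [e0, zero_mul])) with rfl | hp <;> rcases hg.2 q (fun e0 => hne (by rw [e0, mul_zero])) with rfl | hq
    · exact Or.inl rfl
    all_goals right; omega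

theorem lead_pow {f : FreeP n} {e : Fin (numVars n) →₀ ℕ} (hf : Lead f e) : ∀ m : ℕ, Lead (f ^ m) (m • e)
  | 0 => by rw [pow_zero, zero_smul]; exact lead_monomial 0
  | m + 1 => by rw [pow_succ, add_smul, one_smul]; exact lead_mul (lead_pow hf m) hf

theorem lead_add {e e' : Fin (numVars n) →₀ ℕ} (h : wt e' < wt e) :
    Lead (monomial e 1 + monomial e' (1 : ZMod 2)) e := by
  classical
  have hne : e' ≠ e := fun he => absurd h (by simp [he])
  refine ⟨by simp [coeff_monomial, hne], fun d hd => ?_⟩
  by_contra hcon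
  push Not at hcon
  apply hd
  rw [coeff_add, coeff_monomial, coeff_monomial, if_neg (fun he => hcon.1 he.symm),
    if_neg (fun (he : e' = d) => absurd h (not_lt.2 (he.symm ▸ hcon.2))), add_zero]

variable (n) in
/-- Leading exponent of the image of a variable. -/
noncomputable def top' : Option (Fin (numVars n)) → (Fin (numVars n) →₀ ℕ)
  | none => Finsupp.single i0 (n - 1) + if h : 2 ≤ n then Finsupp.single (i1 h) 1 else 0
  | some i => Finsupp.single i (if i.val = 1 then 2 else 1)

include hn in
theorem lead_lift (o : Option (Fin (numVars n))) : Lead (lift n o) (top' n o) := by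
  cases o with
  | none =>
    simp only [lift, top', dif_pos hn, X_pow_eq_monomial]
    rw [X, monomial_mul, one_mul]
    exact lead_monomial _
  | some i =>
    rcases Nat.eq_zero_or_pos i.val with h0 | h0
    · obtain rfl : i = i0 := Fin.ext h0
      simp only [lift, top', i0, if_true, Nat.zero_ne_one, if_false]
      exact lead_monomial _
    · by_cases h1 : i.val = 1
      · obtain rfl : i = i1 hn := Fin.ext h1
        simp only [lift, top', dif_pos hn, if_pos h1, if_neg h0.ne', X_pow_eq_monomial]
        rw [X, X, monomial_mul, one_mul]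
        refine lead_add ?_
        simp [wt_add, wt_single, i0, i1]
      · simp only [lift, top', dif_pos hn, if_neg h1, if_neg h0.ne', X_pow_eq_monomial]
        rw [X, X, monomial_mul, one_mul]
        refine lead_add ?_
        rw [wt_add, wt_single, wt_single, wt_single]
        simp [i0, i1, h0.ne', h1]

variable (n) in
/-- Leading exponent of the image of a monomial. -/
noncomputable def topMon (d : Option (Fin (numVars n)) →₀ ℕ) : Fin (numVars n) →₀ ℕ :=
  ∑ o, d o • top' n o

include hn in
theorem lead_aeval (d : Option (Fin (numVars n)) →₀ ℕ) : Lead (aeval (lift n) (monomial d (1 : ZMod 2))) (topMon n d) := by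
  classical
  rw [aeval_monomial, map_one, one_mul, Finsupp.prod_fintype _ _ (fun _ => pow_zero _), topMon]
  induction (Finset.univ : Finset (Option (Fin (numVars n)))) using Finset.induction_on with
  | empty => simpa using lead_monomial (n := n) 0
  | insert o s ho ih =>
    rw [Finset.prod_insert ho, Finset.sum_insert ho]
    exact lead_mul (lead_pow (lead_lift hn o) _) ih

include hn in
theorem topMon_apply (d : Option (Fin (numVars n)) →₀ ℕ) (i : Fin (numVars n)) :
    topMon n d i = if i.val = 0 then d (some i) + (n - 1) * d none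
      else if i.val = 1 then 2 * d (some i) + d none else d (some i) := by
  classical
  rw [topMon, Fintype.sum_option, Finsupp.add_apply, Finsupp.finsetSum_apply,
    Finset.sum_eq_single i (fun j _ hj => by simp [top', hj]) (fun h => absurd (Finset.mem_univ _) h)]
  simp only [top', dif_pos hn, Finsupp.smul_apply, Finsupp.add_apply, Finsupp.single_apply, Finsupp.single_eq_same,
    smul_eq_mul]
  split_ifs <;> simp_all [i0, i1, Fin.ext_iff] <;> ring

include hn in
theorem topMon_lt {d : Option (Fin (numVars n)) →₀ ℕ} (hd : Red d) (i : Fin (numVars n)) :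
    topMon n d i < bound n i := by
  obtain ⟨hx, hxa, ha, hc, hb⟩ := hd
  rw [topMon_apply hn]
  split_ifs with h0 h1
  · obtain rfl : i = i0 := Fin.ext h0
    rw [bound_i0]
    interval_cases h : d none
    · simpa using ha
    · rw [hxa rfl]; omega
  · rw [bound_ne h0, h1, show klog n (1 + 1) = klog n 2 - 1 + 1 by show klog n 2 = _; have := klog_two_pos hn; omega, pow_succ]
    have := hc i h1
    omega
  · exact hb i (by omega)

include hn in
theorem topMon_inj {d d' : Option (Fin (numVars n)) →₀ ℕ} (hd : Red d) (hd' : Red d') (h : topMon n d = topMon n d') :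
    d = d' := by
  have h' := fun i => DFunLike.congr_fun h i
  simp only [topMon_apply hn] at h'
  have e1 := h' (i1 hn)
  simp only [i1, one_ne_zero, if_false, if_true] at e1
  have hnone : d none = d' none := by have := hd.1; have := hd'.1; omega
  ext o
  cases o with
  | none => exact hnone
  | some i =>
    have := h' i
    rw [hnone] at this
    split_ifs at this <;> omega

theorem coeff_eq_zero_of_mem {f : FreeP n} (hf : f ∈ truncIdeal n) {e : Fin (numVars n) →₀ ℕ}
    (he : ∀ i, e i < bound n i) : coeff e f = 0 := by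
  by_contra h
  have h' : truncIdeal n = Ideal.span ((fun s => monomial s (1 : ZMod 2)) ''
      Set.range fun i : Fin (numVars n) => Finsupp.single i (bound n i)) := by
    rw [truncIdeal, ← Set.range_comp]
    simp only [Function.comp_def, X_pow_eq_monomial]
  rw [h', mem_ideal_span_monomial_image] at hf
  obtain ⟨_, ⟨i, rfl⟩, hle⟩ := hf e (mem_support_iff.2 h)
  have := hle i
  simp at this
  have := he i
  omega

include hn in
theorem eq_zero_of_red {f : FreeE n}
    (hf : f ∈ Submodule.span (ZMod 2) ((fun d => monomial d (1 : ZMod 2)) '' {d | Red d}))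
    (h0 : phi n f = 0) : f = 0 := by
  classical
  have hsupp : ∀ d ∈ f.support, Red d := by
    clear h0
    induction hf using Submodule.span_induction with
    | mem y hy =>
      obtain ⟨d, hd, rfl⟩ := hy
      intro e he
      rw [support_monomial, if_neg one_ne_zero, Finset.mem_singleton] at he
      exact he ▸ hd
    | zero => simp
    | add a b _ _ ha hb => exact fun e he => (Finset.mem_union.1 (support_add he)).elim (ha e) (hb e)
    | smul r a _ ha => exact fun e he => ha e (support_smul he)
  by_contra hne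
  obtain ⟨m, hm, hmax⟩ := Finset.exists_max_image f.support (fun d => wt (topMon n d))
    (Finset.nonempty_iff_ne_empty.2 (mt MvPolynomial.support_eq_empty.1 hne))
  rw [phi_eq hn, Ideal.Quotient.eq_zero_iff_mem] at h0
  have h1 := coeff_eq_zero_of_mem h0 (topMon_lt hn (hsupp m hm))
  rw [f.as_sum, map_sum, coeff_sum, Finset.sum_eq_single m] at h1
  · rw [← mul_one (coeff m f), ← smul_eq_mul, ← smul_monomial, map_smul, coeff_smul, (lead_aeval hn m).1,
      smul_eq_mul, mul_one] at h1
    exact mem_support_iff.1 hm h1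
  · intro d hd hdm
    rw [← mul_one (coeff d f), ← smul_eq_mul, ← smul_monomial, map_smul, coeff_smul]
    by_contra hne'
    rcases (lead_aeval hn d).2 _ (right_ne_zero_of_smul hne') with h | h
    · exact hdm (topMon_inj hn (hsupp d hd) (hsupp m hm) h.symm)
    · exact absurd h (not_lt.2 (hmax d hd))
  · exact fun h => absurd hm h

include hn in
theorem ker_phi : RingHom.ker (phi n) = presIdeal n := by
  refine le_antisymm (fun f hf => ?_) (presIdeal_le hn)
  obtain ⟨r, hr, i, hi, rfl⟩ := Submodule.mem_sup.1 (mem_redSpan hn f)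
  have hr0 : r = 0 := eq_zero_of_red hn hr (by
    have := presIdeal_le hn (show i ∈ presIdeal n from hi)
    rw [RingHom.mem_ker] at hf this
    rwa [map_add, this, add_zero] at hf)
  rw [hr0, zero_add]
  exact hi

end Triangular

end TruncPresLib
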